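import Mathlib

/-!
# A finite abelian group with an irreducible commuting family of endomorphisms is a field

Generic algebra core for S2016 (field construction from the Frobenius group `P ⋊ A`):
if `S` is a commuting set of endomorphisms of a finite abelian group `V` such that the only
`S`-invariant subgroups are `⊥` and `⊤`, then the subring `F` of `End V` generated by `S` is a
finite field and evaluation at any `v₀ ≠ 0` is an additive bijection `F ≃+ V` sending `1` to `v₀`
and intertwining multiplication by (the class of) `a ∈ S` with `a`.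
-/

set_option autoImplicit false

namespace Cfsg.Agent.ApxC

universe u

section irrfield

variable {V : Type u} [AddCommGroup V]

/-- Elements of the closure commute with the generators. -/
theorem apxs_if_comm (S : Set (AddMonoid.End V))
    (hcomm : ∀ a ∈ S, ∀ b ∈ S, a * b = b * a) {r : AddMonoid.End V}
    (hr : r ∈ Subring.closure S) {a : AddMonoid.End V} (ha : a ∈ S) : r * a = a * r := by
  have hc : a ∈ Subring.centralizer ((Subring.closure S : Subring (AddMonoid.End V)) : Set (AddMonoid.End V)) := by
    have : Subring.closure S ≤ Subring.centralizer (S : Set (AddMonoid.End V)) := by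
      rw [Subring.closure_le]
      intro b hb
      rw [SetLike.mem_coe, Subring.mem_centralizer_iff]
      intro g hg
      exact hcomm g hg b hb
    rw [Subring.mem_centralizer_iff]
    intro g hg
    -- g ∈ closure S, want g * a = a * g
    have hS : S ⊆ ((Subring.centralizer ({a} : Set (AddMonoid.End V)) : Subring (AddMonoid.End V)) : Set (AddMonoid.End V)) := by
      intro b hb
      rw [SetLike.mem_coe, Subring.mem_centralizer_iff]
      intro g' hg'
      rw [Set.mem_singleton_iff] at hg'
      subst hg'
      exact hcomm g' ha b hb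
    have hle : Subring.closure S ≤ Subring.centralizer ({a} : Set (AddMonoid.End V)) :=
      Subring.closure_le.2 hS
    have := hle hg
    rw [Subring.mem_centralizer_iff] at this
    exact (this a (Set.mem_singleton a)).symm
  rw [Subring.mem_centralizer_iff] at hc
  exact hc r hr

variable [Finite V]

/-- A nonzero element of the closure is injective. -/
theorem apxs_if_inj (S : Set (AddMonoid.End V))
    (hcomm : ∀ a ∈ S, ∀ b ∈ S, a * b = b * a)
    (hirr : ∀ W : AddSubgroup V, (∀ a ∈ S, ∀ w ∈ W, a w ∈ W) → W = ⊥ ∨ W = ⊤)
    {r : AddMonoid.End V} (hr : r ∈ Subring.closure S) (hr0 : r ≠ 0) :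
    Function.Injective r := by
  let W : AddSubgroup V :=
    { carrier := {w | r w = 0}
      zero_mem' := map_zero r
      add_mem' := fun {a b} ha hb => by
        simp only [Set.mem_setOf_eq] at ha hb ⊢
        rw [map_add, ha, hb, add_zero]
      neg_mem' := fun {a} ha => by
        simp only [Set.mem_setOf_eq] at ha ⊢
        rw [map_neg, ha, neg_zero] }
  have hmem : ∀ w : V, w ∈ W ↔ r w = 0 := fun w => Iff.rfl
  have hW : ∀ a ∈ S, ∀ w ∈ W, a w ∈ W := by
    intro a ha w hw
    rw [hmem] at hw ⊢
    have h1 : r (a w) = (r * a) w := rfl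
    rw [h1, apxs_if_comm S hcomm hr ha]
    show a (r w) = 0
    rw [hw, map_zero]
  rcases hirr W hW with h | h
  · rw [injective_iff_map_eq_zero]
    intro v hv
    have : v ∈ W := (hmem v).2 hv
    rw [h] at this
    exact (AddSubgroup.mem_bot).1 this
  · exfalso
    apply hr0
    ext v
    have : v ∈ W := by rw [h]; trivial
    exact (hmem v).1 this

theorem apxs_if_main (S : Set (AddMonoid.End V))
    (hcomm : ∀ a ∈ S, ∀ b ∈ S, a * b = b * a)
    (hirr : ∀ W : AddSubgroup V, (∀ a ∈ S, ∀ w ∈ W, a w ∈ W) → W = ⊥ ∨ W = ⊤)
    (v₀ : V) (hv₀ : v₀ ≠ 0) :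
    ∃ (F : Type u) (_ : Field F) (_ : Fintype F) (e : F ≃+ V), e 1 = v₀ ∧
      ∀ a ∈ S, ∃ c : F, ∀ x : F, e (c * x) = a (e x) := by
  classical
  letI : CommRing (Subring.closure S) :=
    { (inferInstance : Ring (Subring.closure S)) with
      mul_comm := (Subring.isMulCommutative_closure hcomm).is_comm.comm }
  haveI : Finite (AddMonoid.End V) :=
    Finite.of_injective (fun g : AddMonoid.End V => (g : V → V)) DFunLike.coe_injective
  haveI : Finite (Subring.closure S) := inferInstance
  letI : Fintype (Subring.closure S) := Fintype.ofFinite _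
  haveI : Nontrivial (Subring.closure S) := by
    refine ⟨⟨0, 1, ?_⟩⟩
    intro h01
    apply hv₀
    have : ((0 : Subring.closure S) : AddMonoid.End V) v₀ = ((1 : Subring.closure S) : AddMonoid.End V) v₀ := by
      rw [h01]
    simpa using this.symm
  haveI : NoZeroDivisors (Subring.closure S) := by
    refine ⟨?_⟩
    intro r r' hrr'
    by_contra hne
    push_neg at hne
    obtain ⟨hr0, hr'0⟩ := hne
    have hr0' : (r : AddMonoid.End V) ≠ 0 := fun h0 => hr0 (Subtype.ext h0)
    have hinj := apxs_if_inj S hcomm hirr r.2 hr0'
    apply hr'0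
    apply Subtype.ext
    ext v
    apply hinj
    have h1 : ((r * r' : Subring.closure S) : AddMonoid.End V) v = 0 := by
      rw [hrr']; rfl
    have h2 : ((r * r' : Subring.closure S) : AddMonoid.End V) v
        = (r : AddMonoid.End V) ((r' : AddMonoid.End V) v) := rfl
    rw [h2] at h1
    rw [h1]
    simp
  haveI : IsDomain (Subring.closure S) := NoZeroDivisors.to_isDomain _
  letI fld : Field (Subring.closure S) := Fintype.fieldOfDomain _
  -- evaluation map
  let ev : (Subring.closure S) →+ V :=
    { toFun := fun r => (r : AddMonoid.End V) v₀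
      map_zero' := rfl
      map_add' := fun _ _ => rfl }
  have hev_inj : Function.Injective ev := by
    rw [injective_iff_map_eq_zero]
    intro r hr
    by_contra hr0
    have hr0' : (r : AddMonoid.End V) ≠ 0 := fun h0 => hr0 (Subtype.ext h0)
    have hinj := apxs_if_inj S hcomm hirr r.2 hr0'
    apply hv₀
    apply hinj
    have : (r : AddMonoid.End V) v₀ = 0 := hr
    rw [this, map_zero]
  have hev_surj : Function.Surjective ev := by
    have hW : ∀ a ∈ S, ∀ w ∈ ev.range, a w ∈ ev.range := by
      intro a ha w hw
      obtain ⟨r, rfl⟩ := hw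
      exact ⟨⟨a, Subring.subset_closure ha⟩ * r, rfl⟩
    rcases hirr _ hW with h | h
    · exfalso
      apply hv₀
      have : v₀ ∈ ev.range := ⟨1, rfl⟩
      rw [h] at this
      exact this
    · intro v
      have : v ∈ ev.range := by rw [h]; trivial
      exact this
  refine ⟨Subring.closure S, fld, inferInstance, AddEquiv.ofBijective ev ⟨hev_inj, hev_surj⟩, rfl, ?_⟩
  intro a ha
  exact ⟨⟨a, Subring.subset_closure ha⟩, fun x => rfl⟩

end irrfield

end Cfsg.Agent.ApxC
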