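import Mathlib
import Cfsg.Agent.ApxC.Cfg
import Cfsg.Agent.ApxC.C2Big

/-!
# Appendix C: auxiliary lemmas for the assembly of S1472 (helper7)

* `apxk_ma_exists_E`: for `q < p` there is `a ∈ E`, `a ≠ 1` (cases `q = 2` impossible, `q = 3`, `q ≥ 5`);
* `apxk_ma_primefield_norm`: an element of the prime field of norm one is `1`;
* `apxk_ma_exists_k`: for `i ≠ 1` in the prime field, an integer `k` with `k (i - 1) = 1`.
-/

set_option autoImplicit false

namespace Cfsg.Agent.ApxC

variable {G : Type*} [Group G] [Finite G] {F : Type*} [Field F] [Fintype F]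
  {p q : ℕ} {P U Q : Subgroup G} {f ψ : G → F} {y : G}

/-- **Lemma C.2 in the configuration**: for `q < p` there is `a ∈ E` with `a ≠ 1`. -/
theorem apxk_ma_exists_E (h : ApxCfg p q P U Q f ψ y) (hqp : q < p) :
    ∃ a ∈ apxc_E p q F, a ≠ 1 := by
  have := Fact.mk h.hp
  have := Fact.mk h.hq
  have hq2 := h.hq.two_le
  rcases Nat.lt_or_ge q 5 with hq5 | hq5
  · have hq23 : q = 2 ∨ q = 3 := by
      have h4 : q ≠ 4 := by
        rintro rfl
        exact absurd h.hq (by decide)
      omega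
    rcases hq23 with rfl | rfl
    · exfalso
      -- `m = 1 + p` and `p - 1` are both even
      have hcop := h.m_coprime_pm1
      have hm : apxc_m p 2 = 1 + p := by simp [apxc_m, Finset.sum_range_succ]
      rw [hm] at hcop
      have hodd : p % 2 = 1 := by
        rcases h.hp.eq_two_or_odd with h2 | h2
        · omega
        · exact h2
      have h1 : 2 ∣ 1 + p := by omega
      have h2 : 2 ∣ p - 1 := by omega
      have h3 : 2 ∣ Nat.gcd (1 + p) (p - 1) := Nat.dvd_gcd h1 h2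
      rw [hcop.gcd_eq_one] at h3
      omega
    · exact apxc_C2_three p (by omega) h.hF
  · exact apxc_C2_big p q hq5 hqp h.m_coprime_pm1 h.hF

/-- the prime field meets the norm-one group trivially -/
theorem apxk_ma_primefield_norm (h : ApxCfg p q P U Q f ψ y) {d : F} (hd : d ^ p = d)
    (hm : d ^ apxc_m p q = 1) : d = 1 := by
  have hm0 : apxc_m p q ≠ 0 := (apxc_m_pos p q h.hq.pos).ne'
  have hd0 : d ≠ 0 := by
    rintro rfl
    rw [zero_pow hm0] at hm
    exact zero_ne_one hm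
  have hp1 : d ^ (p - 1) = 1 := by
    have h1 : d ^ (p - 1) * d = 1 * d := by
      rw [← pow_succ, Nat.sub_add_cancel h.hp.pos, one_mul]
      exact hd
    exact mul_right_cancel₀ hd0 h1
  have h2 : d ^ Nat.gcd (apxc_m p q) (p - 1) = 1 := pow_gcd_eq_one.mpr ⟨hm, hp1⟩
  rw [h.m_coprime_pm1.gcd_eq_one, pow_one] at h2
  exact h2

/-- an element of `ψ '' U` lying in the prime field is `1` -/
theorem apxk_ma_psi_primefield (h : ApxCfg p q P U Q f ψ y) {u : G} (hu : u ∈ U)
    (hd : ψ u ^ p = ψ u) : ψ u = 1 :=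
  apxk_ma_primefield_norm h hd (h.psi_pow_m hu)

/-- for `i ≠ 1` in the prime field there is an integer `k`, prime to `p`, with `k (i - 1) = 1` -/
theorem apxk_ma_exists_k (h : ApxCfg p q P U Q f ψ y) (i : ℕ) (hi : (i : F) ≠ 1) :
    ∃ k : ℤ, ¬ (p : ℤ) ∣ k ∧ (k : F) * ((i : F) - 1) = 1 := by
  have hnF : (((i : ℤ) - 1 : ℤ) : F) = (i : F) - 1 := by push_cast; ring
  have hn0 : (((i : ℤ) - 1 : ℤ) : F) ≠ 0 := by
    rw [hnF]
    exact sub_ne_zero.mpr hi
  have hnd : ¬ (p : ℤ) ∣ ((i : ℤ) - 1) := fun hd => hn0 (h.intCast_eq_zero.mpr hd)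
  have hpI : Prime (p : ℤ) := Nat.prime_iff_prime_int.mp h.hp
  have hcop : IsCoprime ((i : ℤ) - 1) (p : ℤ) :=
    (Int.isCoprime_iff_gcd_eq_one.mpr
      (by
        have := (Int.isCoprime_iff_gcd_eq_one.mp
          ((Prime.coprime_iff_not_dvd hpI).mpr hnd))
        rwa [Int.gcd_comm] at this))
  obtain ⟨a, b, hab⟩ := hcop
  have hpF : ((p : ℤ) : F) = 0 := h.intCast_eq_zero.mpr dvd_rfl
  have hF1 : (a : F) * ((i : F) - 1) = 1 := by
    have h1 := congrArg (fun z : ℤ => (z : F)) hab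
    simp only [Int.cast_add, Int.cast_mul, Int.cast_one] at h1
    rw [hpF, mul_zero, add_zero, hnF] at h1
    exact h1
  refine ⟨a, ?_, hF1⟩
  intro hd
  have ha0 : (a : F) = 0 := h.intCast_eq_zero.mpr hd
  rw [ha0, zero_mul] at hF1
  exact zero_ne_one hF1

end Cfsg.Agent.ApxC
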