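import Mathlib
import Cfsg.Agent.ApxC.TriE

set_option autoImplicit false
set_option linter.unusedSectionVars false

/-!
# B&G Appendix C (helper9): the Frobenius image of an `E`-derived triangle is a triangle

The three slots of `apxk_triE` for `(ua ^ p, ub ^ p)` are the `p`-th powers of the slots for
`(ua, ub)`; hence `Tri k X₀ X₁ X₂` comes with `Tri k (X₀ ^ p) (X₁ ^ p) (X₂ ^ p)` (input of P5).
-/

namespace Cfsg.Agent.ApxC

variable {G : Type*} [Group G] [Finite G] {F : Type*} [Field F] [Fintype F]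
  {p q : ℕ} {P U Q : Subgroup G} {f ψ : G → F} {y : G}

/-- `ψ(u^p) + ψ(v^p) = 2` from `ψ u + ψ v = 2` -/
theorem apxk_tp_hab (h : ApxCfg p q P U Q f ψ y) {ua ub : G} (hua : ua ∈ U) (hub : ub ∈ U)
    (hab : ψ ua + ψ ub = 2) : ψ (ua ^ p) + ψ (ub ^ p) = 2 := by
  have : Fact p.Prime := ⟨h.hp⟩
  have := h.charP
  rw [h.psi_pow hua, h.psi_pow hub, ← add_pow_char, hab]
  have h2 := h.intCast_pow_p 2
  push_cast at h2
  exact h2

/-- the slot identities -/
theorem apxk_tp_slot (h : ApxCfg p q P U Q f ψ y) {ua ub : G} (hua : ua ∈ U) (hub : ub ∈ U)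
    (a b i j : ℤ) :
    (a : F) * ψ (apxk_tw P f y i (ub ^ p)) - (b : F) * ψ (apxk_tw P f y j (ua ^ p)) =
      ((a : F) * ψ (apxk_tw P f y i ub) - (b : F) * ψ (apxk_tw P f y j ua)) ^ p := by
  have : Fact p.Prime := ⟨h.hp⟩
  have := h.charP
  rw [h.psi_tw_pow hua, h.psi_tw_pow hub, sub_pow_char, mul_pow, mul_pow, h.intCast_pow_p,
    h.intCast_pow_p]

/-- **the Frobenius image of the `E`-derived triangle** -/
theorem apxk_triE_pow (h : ApxCfg p q P U Q f ψ y) {ua ub : G} (hua : ua ∈ U) (hub : ub ∈ U)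
    (hab : ψ ua + ψ ub = 2) (l k : ℤ) :
    apxk_Tri P f y k
      ((((l + 2 * k : ℤ) : F) - ((l + k : ℤ) : F) * ψ (apxk_tw P f y l ua)) ^ p)
      ((((l + 2 * k : ℤ) : F) * ψ (apxk_tw P f y (l + k) ub) -
        (l : F) * ψ (apxk_tw P f y (l + k) ua)) ^ p)
      ((((l + k : ℤ) : F) * ψ (apxk_tw P f y (l + 2 * k) ub) - (l : F)) ^ p) := by
  have : Fact p.Prime := ⟨h.hp⟩
  have := h.charP
  have key := apxk_triE h (U.pow_mem hua p) (U.pow_mem hub p) (apxk_tp_hab h hua hub hab) l k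
  have e1 : ((l + 2 * k : ℤ) : F) * ψ (apxk_tw P f y (l + k) (ub ^ p)) -
      (l : F) * ψ (apxk_tw P f y (l + k) (ua ^ p)) =
      (((l + 2 * k : ℤ) : F) * ψ (apxk_tw P f y (l + k) ub) -
        (l : F) * ψ (apxk_tw P f y (l + k) ua)) ^ p := apxk_tp_slot h hua hub _ _ _ _
  have e0 : ((l + 2 * k : ℤ) : F) - ((l + k : ℤ) : F) * ψ (apxk_tw P f y l (ua ^ p)) =
      (((l + 2 * k : ℤ) : F) - ((l + k : ℤ) : F) * ψ (apxk_tw P f y l ua)) ^ p := by
    rw [h.psi_tw_pow hua, sub_pow_char, mul_pow, h.intCast_pow_p, h.intCast_pow_p]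
  have e2 : ((l + k : ℤ) : F) * ψ (apxk_tw P f y (l + 2 * k) (ub ^ p)) - (l : F) =
      (((l + k : ℤ) : F) * ψ (apxk_tw P f y (l + 2 * k) ub) - (l : F)) ^ p := by
    rw [h.psi_tw_pow hub, sub_pow_char, mul_pow, h.intCast_pow_p, h.intCast_pow_p]
  rw [e0, e1, e2] at key
  exact key

end Cfsg.Agent.ApxC
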