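import Mathlib

set_option autoImplicit false

/-!
Bender–Glauberman, Appendix C (for S1472 / S2016): the "U-fixed-point" step (G2b), abstractly.

`P, U ≤ G`, `U` normalises `P`, `t` normalises `U`, elements of `P` have order dividing `p`,
elements `v g` (`v ∈ U`, `g ∈ P`) of order dividing `p` have `v = 1`, and `P ∩ t^-b P t^b = 1`
("non-collapse").  If `σ ∈ P`, `σ' ∈ P` and `σ t^a = t^b σ'`, then `σ` centralises `U`.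
-/

namespace Cfsg.Agent.ApxC

variable {G : Type*} [Group G]

theorem apxc_fix_main (P U : Subgroup G) (p : ℕ)
    (hUP : ∀ u ∈ U, ∀ g ∈ P, u * g * u⁻¹ ∈ P)
    (hPp : ∀ g ∈ P, g ^ p = 1)
    (hpel : ∀ v ∈ U, ∀ g ∈ P, (v * g) ^ p = 1 → v = 1)
    (t : G) (htU : ∀ (j : ℤ), ∀ u ∈ U, t ^ j * u * (t ^ j)⁻¹ ∈ U)
    (a b : ℤ)
    (hD : ∀ g ∈ P, (t ^ b)⁻¹ * g * t ^ b ∈ P → g = 1)
    (σ σ' : G) (hσ : σ ∈ P) (hσ' : σ' ∈ P)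
    (hrel : σ * t ^ a = t ^ b * σ') :
    ∀ u ∈ U, σ * u = u * σ := by
  intro u hu
  -- `u₀ = t^-a u t^a`
  obtain ⟨u₀, hu₀⟩ : ∃ u₀ : G, u₀ = (t ^ a)⁻¹ * u * t ^ a := ⟨_, rfl⟩
  have hu₀U : u₀ ∈ U := by
    have := htU (-a) u hu
    rw [zpow_neg, inv_inv] at this
    rwa [hu₀]
  have hu₀' : u = t ^ a * u₀ * (t ^ a)⁻¹ := by rw [hu₀]; group
  -- the commutator `z`
  obtain ⟨z, hz⟩ : ∃ z : G, z = σ * u * σ⁻¹ * u⁻¹ := ⟨_, rfl⟩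
  have hzP : z ∈ P := by
    have h1 : u * σ⁻¹ * u⁻¹ ∈ P := hUP u hu _ (Subgroup.inv_mem _ hσ)
    have h2 : z = σ * (u * σ⁻¹ * u⁻¹) := by rw [hz]; group
    rw [h2]
    exact Subgroup.mul_mem _ hσ h1
  -- `v` and `g'`
  obtain ⟨v, hv⟩ : ∃ v : G, v = u₀ * ((t ^ b)⁻¹ * u⁻¹ * t ^ b) := ⟨_, rfl⟩
  have hvU : v ∈ U := by
    have h1 := htU (-b) u⁻¹ (Subgroup.inv_mem _ hu)
    rw [zpow_neg, inv_inv] at h1
    rw [hv]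
    exact Subgroup.mul_mem _ hu₀U h1
  obtain ⟨g', hg'⟩ : ∃ g' : G, g' = σ' * u₀ * σ'⁻¹ * u₀⁻¹ := ⟨_, rfl⟩
  have hg'P : g' ∈ P := by
    have h1 : u₀ * σ'⁻¹ * u₀⁻¹ ∈ P := hUP u₀ hu₀U _ (Subgroup.inv_mem _ hσ')
    have h2 : g' = σ' * (u₀ * σ'⁻¹ * u₀⁻¹) := by rw [hg']; group
    rw [h2]
    exact Subgroup.mul_mem _ hσ' h1
  -- the key identity `t^-b z t^b = g' v`
  have hkey : (t ^ b)⁻¹ * z * t ^ b = g' * v := by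
    have h1 : σ = t ^ b * σ' * (t ^ a)⁻¹ := by
      rw [← hrel]; group
    rw [hz, hg', hv, hu₀', h1]
    group
  -- `g' v = v (v⁻¹ g' v)` has order dividing `p`
  have hpow : (v * (v⁻¹ * g' * v⁻¹⁻¹)) ^ p = 1 := by
    have h1 : v * (v⁻¹ * g' * v⁻¹⁻¹) = (t ^ b)⁻¹ * z * t ^ b := by
      rw [hkey]; group
    have h2 : (t ^ b)⁻¹ * z * t ^ b = (t ^ b)⁻¹ * z * (t ^ b)⁻¹⁻¹ := by rw [inv_inv]
    rw [h1, h2, conj_pow, hPp z hzP]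
    group
  have hv1 : v = 1 :=
    hpel v hvU _ (hUP v⁻¹ (Subgroup.inv_mem _ hvU) g' hg'P) hpow
  rw [hv1, mul_one] at hkey
  have hz1 : z = 1 := hD z hzP (by rw [hkey]; exact hg'P)
  rw [hz] at hz1
  have : σ * u = (σ * u * σ⁻¹ * u⁻¹) * (u * σ) := by group
  rw [this, hz1, one_mul]

end Cfsg.Agent.ApxC
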