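import Mathlib
import Cfsg.Agent.ApxC.TriFrob
import Cfsg.Agent.ApxC.TriBasic

set_option autoImplicit false

/-!
Bender–Glauberman, Appendix C (for S1472 / S2016): piece P5, "Frobenius rigidity", final form
(pieces P3/P4 plugged in).
-/

namespace Cfsg.Agent.ApxC

variable {G : Type*} [Group G] [Finite G] {F : Type*} [Field F] [Fintype F]
  {p q : ℕ} {P U Q : Subgroup G} {f ψ : G → F} {y : G}

/-- **P5**: a triangle whose entrywise `p`-th power is again a triangle is a `U`-scaling of a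
triangle with entries in the prime field. -/
theorem apxk_tri_frob (h : ApxCfg p q P U Q f ψ y) {k : ℤ} (hk : ¬ (p : ℤ) ∣ k)
    {X₀ X₁ X₂ : F} (hX₀ : X₀ ≠ 0) (hT : apxk_Tri P f y k X₀ X₁ X₂)
    (hTp : apxk_Tri P f y k (X₀ ^ p) (X₁ ^ p) (X₂ ^ p)) :
    ∃ w ∈ U, ∃ d₀ d₁ d₂ : F, d₀ ^ p = d₀ ∧ d₁ ^ p = d₁ ∧ d₂ ^ p = d₂ ∧ X₀ = d₀ * ψ w ∧
      apxk_Tri P f y k d₀ d₁ d₂ :=
  apxk_tri_frob' h (fun _ hu _ _ _ hT => apxk_tri_conj h hu hT)
    (fun _ _ _ _ _ hT hT' => apxk_tri_unique' h hk hT hT') hX₀ hT hTp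

end Cfsg.Agent.ApxC
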